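import Mathlib.Init

/-!
Generated data of the 2-subgroup of order 256: words of the elements, the classes modulo the
subgroup of products of squares, and their profiles.
-/

set_option autoImplicit false
set_option maxRecDepth 4000

namespace Cfsg.Agent.Lib.LyFusion38

/-- The word of each element. -/
def elemWords : List (List Nat) :=
  [[],
   [0],
   [2],
   [4],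
   [0, 2],
   [0, 4],
   [2, 0],
   [2, 4],
   [4, 0],
   [4, 2],
   [0, 2, 0],
   [0, 2, 4],
   [0, 4, 0],
   [0, 4, 2],
   [2, 0, 2],
   [2, 0, 4],
   [2, 4, 0],
   [2, 4, 2],
   [4, 0, 2],
   [4, 0, 4],
   [4, 2, 0],
   [4, 2, 4],
   [0, 2, 0, 2],
   [0, 2, 0, 4],
   [0, 2, 4, 0],
   [0, 2, 4, 2],
   [0, 4, 0, 2],
   [0, 4, 0, 4],
   [0, 4, 2, 0],
   [0, 4, 2, 4],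
   [2, 0, 2, 0],
   [2, 0, 2, 4],
   [2, 0, 4, 0],
   [2, 0, 4, 2],
   [2, 4, 0, 2],
   [2, 4, 0, 4],
   [2, 4, 2, 0],
   [2, 4, 2, 4],
   [4, 0, 2, 0],
   [4, 0, 2, 4],
   [4, 0, 4, 0],
   [4, 0, 4, 2],
   [4, 2, 0, 2],
   [4, 2, 0, 4],
   [4, 2, 4, 0],
   [4, 2, 4, 2],
   [0, 2, 0, 2, 0],
   [0, 2, 0, 2, 4],
   [0, 2, 0, 4, 0],
   [0, 2, 0, 4, 2],
   [0, 2, 4, 0, 2],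
   [0, 2, 4, 0, 4],
   [0, 2, 4, 2, 0],
   [0, 2, 4, 2, 4],
   [0, 4, 0, 2, 0],
   [0, 4, 0, 2, 4],
   [0, 4, 0, 4, 0],
   [0, 4, 0, 4, 2],
   [0, 4, 2, 0, 2],
   [0, 4, 2, 0, 4],
   [0, 4, 2, 4, 0],
   [0, 4, 2, 4, 2],
   [2, 0, 2, 0, 2],
   [2, 0, 2, 0, 4],
   [2, 0, 2, 4, 0],
   [2, 0, 2, 4, 2],
   [2, 0, 4, 0, 2],
   [2, 0, 4, 0, 4],
   [2, 0, 4, 2, 0],
   [2, 0, 4, 2, 4],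
   [2, 4, 0, 2, 0],
   [2, 4, 0, 2, 4],
   [2, 4, 0, 4, 0],
   [2, 4, 0, 4, 2],
   [2, 4, 2, 0, 2],
   [2, 4, 2, 0, 4],
   [2, 4, 2, 4, 0],
   [4, 0, 2, 0, 2],
   [4, 0, 2, 0, 4],
   [4, 0, 2, 4, 0],
   [4, 0, 4, 0, 2],
   [4, 0, 4, 0, 4],
   [4, 0, 4, 2, 0],
   [4, 0, 4, 2, 4],
   [4, 2, 0, 2, 0],
   [4, 2, 0, 2, 4],
   [4, 2, 0, 4, 0],
   [4, 2, 4, 0, 4],
   [4, 2, 4, 2, 4],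
   [0, 2, 0, 2, 0, 2],
   [0, 2, 0, 2, 0, 4],
   [0, 2, 0, 2, 4, 0],
   [0, 2, 0, 2, 4, 2],
   [0, 2, 0, 4, 0, 2],
   [0, 2, 0, 4, 0, 4],
   [0, 2, 0, 4, 2, 0],
   [0, 2, 0, 4, 2, 4],
   [0, 2, 4, 0, 2, 0],
   [0, 2, 4, 0, 2, 4],
   [0, 2, 4, 0, 4, 0],
   [0, 2, 4, 0, 4, 2],
   [0, 2, 4, 2, 0, 2],
   [0, 2, 4, 2, 0, 4],
   [0, 2, 4, 2, 4, 0],
   [0, 4, 0, 2, 0, 2],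
   [0, 4, 0, 2, 0, 4],
   [0, 4, 0, 2, 4, 0],
   [0, 4, 0, 4, 0, 2],
   [0, 4, 0, 4, 0, 4],
   [0, 4, 0, 4, 2, 0],
   [0, 4, 0, 4, 2, 4],
   [0, 4, 2, 0, 2, 0],
   [0, 4, 2, 0, 2, 4],
   [0, 4, 2, 0, 4, 0],
   [0, 4, 2, 4, 0, 4],
   [0, 4, 2, 4, 2, 4],
   [2, 0, 2, 0, 2, 0],
   [2, 0, 2, 0, 2, 4],
   [2, 0, 2, 0, 4, 0],
   [2, 0, 2, 0, 4, 2],
   [2, 0, 2, 4, 0, 2],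
   [2, 0, 2, 4, 0, 4],
   [2, 0, 2, 4, 2, 0],
   [2, 0, 2, 4, 2, 4],
   [2, 0, 4, 0, 2, 0],
   [2, 0, 4, 0, 2, 4],
   [2, 0, 4, 0, 4, 2],
   [2, 0, 4, 2, 0, 2],
   [2, 0, 4, 2, 0, 4],
   [2, 0, 4, 2, 4, 2],
   [2, 4, 0, 2, 0, 2],
   [2, 4, 0, 2, 0, 4],
   [2, 4, 0, 4, 0, 4],
   [2, 4, 0, 4, 2, 0],
   [2, 4, 0, 4, 2, 4],
   [2, 4, 2, 0, 2, 0],
   [2, 4, 2, 4, 0, 4],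
   [4, 0, 2, 0, 2, 0],
   [4, 0, 2, 0, 2, 4],
   [4, 0, 2, 0, 4, 2],
   [4, 0, 4, 0, 4, 0],
   [4, 0, 4, 0, 4, 2],
   [4, 0, 4, 2, 0, 2],
   [4, 0, 4, 2, 4, 0],
   [4, 0, 4, 2, 4, 2],
   [4, 2, 0, 2, 0, 2],
   [4, 2, 0, 2, 0, 4],
   [4, 2, 4, 0, 4, 0],
   [4, 2, 4, 0, 4, 2],
   [4, 2, 4, 2, 4, 0],
   [0, 2, 0, 2, 0, 2, 0],
   [0, 2, 0, 2, 0, 2, 4],
   [0, 2, 0, 2, 0, 4, 0],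
   [0, 2, 0, 2, 0, 4, 2],
   [0, 2, 0, 2, 4, 0, 2],
   [0, 2, 0, 2, 4, 0, 4],
   [0, 2, 0, 2, 4, 2, 0],
   [0, 2, 0, 2, 4, 2, 4],
   [0, 2, 0, 4, 0, 2, 0],
   [0, 2, 0, 4, 0, 2, 4],
   [0, 2, 0, 4, 0, 4, 2],
   [0, 2, 0, 4, 2, 0, 2],
   [0, 2, 0, 4, 2, 0, 4],
   [0, 2, 0, 4, 2, 4, 2],
   [0, 2, 4, 0, 2, 0, 2],
   [0, 2, 4, 0, 2, 0, 4],
   [0, 2, 4, 0, 4, 0, 4],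
   [0, 2, 4, 0, 4, 2, 0],
   [0, 2, 4, 0, 4, 2, 4],
   [0, 2, 4, 2, 0, 2, 0],
   [0, 2, 4, 2, 4, 0, 4],
   [0, 4, 0, 2, 0, 2, 0],
   [0, 4, 0, 2, 0, 2, 4],
   [0, 4, 0, 2, 0, 4, 2],
   [0, 4, 0, 4, 0, 4, 0],
   [0, 4, 0, 4, 0, 4, 2],
   [0, 4, 0, 4, 2, 0, 2],
   [0, 4, 0, 4, 2, 4, 0],
   [0, 4, 0, 4, 2, 4, 2],
   [0, 4, 2, 0, 2, 0, 2],
   [0, 4, 2, 0, 2, 0, 4],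
   [0, 4, 2, 4, 0, 4, 0],
   [0, 4, 2, 4, 0, 4, 2],
   [0, 4, 2, 4, 2, 4, 0],
   [2, 0, 2, 0, 2, 0, 2],
   [2, 0, 2, 0, 2, 4, 0],
   [2, 0, 2, 0, 4, 0, 2],
   [2, 0, 2, 4, 0, 2, 0],
   [2, 0, 2, 4, 0, 4, 2],
   [2, 0, 2, 4, 2, 0, 2],
   [2, 0, 4, 0, 2, 0, 2],
   [2, 0, 4, 0, 2, 0, 4],
   [2, 0, 4, 0, 2, 4, 0],
   [2, 0, 4, 2, 0, 2, 0],
   [2, 0, 4, 2, 0, 4, 0],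
   [2, 4, 0, 2, 0, 2, 4],
   [2, 4, 0, 2, 0, 4, 2],
   [2, 4, 0, 4, 2, 0, 2],
   [2, 4, 0, 4, 2, 4, 2],
   [2, 4, 2, 0, 2, 0, 2],
   [2, 4, 2, 0, 2, 0, 4],
   [2, 4, 2, 4, 0, 4, 0],
   [4, 0, 2, 0, 4, 2, 0],
   [4, 0, 4, 0, 4, 0, 4],
   [4, 0, 4, 0, 4, 2, 4],
   [4, 0, 4, 2, 4, 2, 4],
   [4, 2, 4, 0, 4, 0, 4],
   [4, 2, 4, 2, 4, 0, 4],
   [0, 2, 0, 2, 0, 2, 0, 2],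
   [0, 2, 0, 2, 0, 2, 4, 0],
   [0, 2, 0, 2, 0, 4, 0, 2],
   [0, 2, 0, 2, 4, 0, 2, 0],
   [0, 2, 0, 2, 4, 0, 4, 2],
   [0, 2, 0, 2, 4, 2, 0, 2],
   [0, 2, 0, 4, 0, 2, 0, 2],
   [0, 2, 0, 4, 0, 2, 0, 4],
   [0, 2, 0, 4, 0, 2, 4, 0],
   [0, 2, 0, 4, 2, 0, 2, 0],
   [0, 2, 0, 4, 2, 0, 4, 0],
   [0, 2, 4, 0, 2, 0, 2, 4],
   [0, 2, 4, 0, 2, 0, 4, 2],
   [0, 2, 4, 0, 4, 2, 0, 2],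
   [0, 2, 4, 0, 4, 2, 4, 2],
   [0, 2, 4, 2, 0, 2, 0, 2],
   [0, 2, 4, 2, 0, 2, 0, 4],
   [0, 2, 4, 2, 4, 0, 4, 0],
   [0, 4, 0, 2, 0, 4, 2, 0],
   [0, 4, 0, 4, 0, 4, 0, 4],
   [0, 4, 0, 4, 0, 4, 2, 4],
   [0, 4, 0, 4, 2, 4, 2, 4],
   [0, 4, 2, 4, 0, 4, 0, 4],
   [0, 4, 2, 4, 2, 4, 0, 4],
   [2, 0, 2, 0, 2, 4, 0, 2],
   [2, 0, 2, 0, 4, 0, 2, 0],
   [2, 0, 2, 0, 4, 0, 2, 4],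
   [2, 0, 2, 4, 0, 2, 0, 4],
   [2, 0, 2, 4, 2, 0, 2, 0],
   [2, 0, 4, 0, 2, 0, 2, 0],
   [2, 0, 4, 0, 2, 0, 2, 4],
   [2, 0, 4, 0, 2, 0, 4, 2],
   [2, 0, 4, 2, 0, 2, 0, 2],
   [2, 0, 4, 2, 0, 2, 0, 4],
   [2, 4, 0, 4, 2, 4, 2, 4],
   [0, 2, 0, 2, 0, 2, 4, 0, 2],
   [0, 2, 0, 2, 0, 4, 0, 2, 0],
   [0, 2, 0, 2, 0, 4, 0, 2, 4],
   [0, 2, 0, 2, 4, 0, 2, 0, 4],
   [0, 2, 0, 2, 4, 2, 0, 2, 0],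
   [0, 2, 0, 4, 0, 2, 0, 2, 0],
   [0, 2, 0, 4, 0, 2, 0, 2, 4],
   [0, 2, 0, 4, 0, 2, 0, 4, 2],
   [0, 2, 0, 4, 2, 0, 2, 0, 2],
   [0, 2, 0, 4, 2, 0, 2, 0, 4],
   [0, 2, 4, 0, 4, 2, 4, 2, 4],
   [2, 0, 2, 4, 2, 0, 2, 0, 4],
   [0, 2, 0, 2, 4, 2, 0, 2, 0, 4]]

/-- The position of the central involution. -/
def centIdx : Nat := 208

/-- The products of squares. -/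
def squaresProd : List Nat :=
  [0, 22, 27, 30, 37, 40, 45, 96, 98, 100, 102, 103, 112, 121, 125, 126, 128, 131, 133, 138, 139, 142, 146, 208,
   215, 216, 218, 226, 227, 229, 231, 255]

/-- Each product of squares as the product of two squares. -/
def squarePairs : List (Nat × Nat) :=
  [(0, 0), (0, 4), (0, 5), (0, 6), (0, 7), (0, 8), (0, 9), (0, 28), (0, 11), (0, 42), (0, 13), (0, 24), (0, 34), (0, 36), (0, 65), (0, 33), (0, 15), (0, 32), (0, 31), (0, 39), (0, 26), (0, 25), (0, 43), (0, 22), (0, 23), (0, 156), (0, 48), (0, 38), (0, 27), (0, 154), (0, 161), (0, 49)]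

/-- The class of each element. -/
def classOf : List Nat :=
  [0, 1, 2, 3, 4, 5, 4, 6, 5, 6, 2, 7, 3, 7, 1, 7, 7, 3, 7, 1, 7, 2, 0, 6,
   6, 5, 6, 0, 6, 4, 0, 5, 6, 5, 5, 4, 5, 0, 6, 4, 0, 4, 5, 4, 4, 0, 1, 3,
   7, 3, 3, 2, 3, 1, 7, 2, 1, 2, 3, 2, 2, 1, 2, 3, 3, 7, 3, 2, 3, 1, 3, 1,
   2, 1, 7, 1, 1, 3, 2, 2, 2, 3, 2, 7, 3, 1, 2, 7, 3, 4, 5, 5, 6, 5, 4, 5,
   0, 5, 0, 4, 0, 6, 0, 0, 5, 4, 4, 4, 5, 4, 6, 5, 0, 4, 6, 5, 4, 6, 5, 6,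
   6, 0, 6, 4, 5, 0, 0, 6, 0, 4, 6, 0, 6, 0, 5, 6, 5, 5, 0, 0, 5, 6, 0, 6,
   5, 6, 0, 6, 5, 5, 2, 7, 3, 7, 7, 1, 7, 2, 3, 1, 1, 7, 1, 2, 7, 1, 7, 1,
   3, 7, 3, 3, 1, 1, 3, 7, 1, 7, 3, 7, 1, 7, 3, 3, 1, 7, 7, 7, 2, 3, 7, 1,
   1, 7, 1, 2, 2, 2, 7, 3, 2, 3, 1, 1, 2, 1, 2, 1, 0, 6, 6, 6, 4, 5, 6, 0,
   0, 6, 0, 4, 4, 4, 6, 5, 4, 5, 0, 0, 4, 0, 4, 0, 5, 6, 4, 4, 5, 6, 4, 4,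
   5, 4, 4, 3, 7, 2, 2, 3, 7, 2, 2, 3, 2, 2, 1, 0]

/-- The profiles of the classes. -/
def profiles : List Nat :=
  [3, 5, 7, 3, 7, 4, 4, 2]

end Cfsg.Agent.Lib.LyFusion38
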