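import Cfsg.Agent.Lib.LyFusion38.Prog
import Cfsg.Agent.Lib.LyFusion38.ProgData
import Cfsg.Agent.Lib.LyFusion38.ModelData
import Cfsg.Agent.Lib.LyFusion38.TableS.Data

/-!
The checked programs: generators of the 2-subgroup, its relations, its central involution and the
conjugating elements.
-/

set_option autoImplicit false
set_option maxRecDepth 100000
set_option Elab.async false

namespace Cfsg.Agent.Lib.LyFusion38

open Cfsg.Agent.Lib.LyG2

/-- The packed letters. -/
noncomputable def baseP : List ℕ := (List.range 10).map letP

/-- The letters in the group. -/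
noncomputable def baseG : List LyP := (List.range 10).map gL

/-- The generators. -/
noncomputable def sG (k : ℕ) : LyP :=
  (runM (· * ·) 1 baseG (sProgs.getD k [])).getLastD 1

/-- The packed generators. -/
noncomputable def sP (k : ℕ) : ℕ := Code.packB (32 * 111) (sRowsAll.getD k [])

/-- The conjugators. -/
noncomputable def cG (k : ℕ) : LyP :=
  (runM (· * ·) 1 (baseG ++ (List.range 3).map sG) (cProgs.getD k [])).getLastD 1

/-- The packed conjugators. -/
noncomputable def cP (k : ℕ) : ℕ :=
  (runM mulP repOne (baseP ++ (List.range 3).map sP) (cProgs.getD k [])).getLastD repOne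

/-- The central involution. -/
noncomputable def tG : LyP := gL 0 * gL 0 * gL 0 * gL 0

/-- Its packed form. -/
noncomputable def tP : ℕ := mulP (mulP (mulP (letP 0) (letP 0)) (letP 0)) (letP 0)

/-- The packed value of a word in the generators. -/
noncomputable def wordS (l : List ℕ) : ℕ := l.foldl (fun P g => mulP P (sP (g / 2))) repOne

theorem sP0_ok : Nat.beq ((runM mulP repOne baseP (sProgs.getD 0 [])).getLastD repOne) (sP 0) = true := by
  decide +kernel

theorem sP1_ok : Nat.beq ((runM mulP repOne baseP (sProgs.getD 1 [])).getLastD repOne) (sP 1) = true := by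
  decide +kernel

theorem sP2_ok : Nat.beq ((runM mulP repOne baseP (sProgs.getD 2 [])).getLastD repOne) (sP 2) = true := by
  decide +kernel

theorem rels_even : (TableS.relWords.all fun l => l.all fun g => Nat.blt g 6 && Nat.beq (g % 2) 0) = true := by
  decide +kernel

theorem rels_ok : (TableS.relWords.all fun l => Nat.beq (wordS l) repOne) = true := by decide +kernel

theorem cent_even : ((elemWords.getD centIdx []).all fun g => Nat.blt g 6 && Nat.beq (g % 2) 0) = true := by
  decide +kernel

theorem cent_ok : Nat.beq (wordS (elemWords.getD centIdx [])) tP = true := by decide +kernel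

theorem tP_ne : Nat.beq tP repOne = false := by decide +kernel

theorem conj0_ok : Nat.beq (mulP (cP 0) tP) (mulP (sP 0) (cP 0)) = true := by decide +kernel

theorem conj1_ok : Nat.beq (mulP (cP 1) tP) (mulP (sP 1) (cP 1)) = true := by decide +kernel

theorem conj2_ok : Nat.beq (mulP (cP 2) tP) (mulP (sP 2) (cP 2)) = true := by decide +kernel

theorem forall₂_getLastD {α β : Type*} {R : α → β → Prop} {a : α} {b : β} (hab : R a b)
    {l : List α} {m : List β} (h : List.Forall₂ R l m) : R (l.getLastD a) (m.getLastD b) := by
  induction h generalizing a b with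
  | nil => simpa using hab
  | cons h1 _ ih =>
    rw [List.getLastD_cons, List.getLastD_cons]
    exact ih h1

theorem agrees_base : List.Forall₂ Agrees baseG baseP := by
  rw [baseG, baseP, List.forall₂_map_left_iff, List.forall₂_map_right_iff, List.forall₂_same]
  exact fun g hg => agrees_letter (List.mem_range.1 hg)

theorem agrees_run {k : ℕ} {P : ℕ}
    (h : Nat.beq ((runM mulP repOne baseP (sProgs.getD k [])).getLastD repOne) P = true) :
    Agrees (sG k) P := by
  rw [← Nat.eq_of_beq_eq_true h]
  exact forall₂_getLastD Agrees.one (runM_rel Agrees.one Agrees.mul _ agrees_base)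

theorem agrees_sG {k : ℕ} (hk : k < 3) : Agrees (sG k) (sP k) := by
  interval_cases k
  exacts [agrees_run sP0_ok, agrees_run sP1_ok, agrees_run sP2_ok]

theorem agrees_cG (k : ℕ) : Agrees (cG k) (cP k) := by
  refine forall₂_getLastD Agrees.one (runM_rel Agrees.one Agrees.mul _ (List.rel_append agrees_base ?_))
  rw [List.forall₂_map_left_iff, List.forall₂_map_right_iff, List.forall₂_same]
  exact fun g hg => agrees_sG (List.mem_range.1 hg)

theorem agrees_tG : Agrees tG tP :=
  (((agrees_letter (by norm_num)).mul (agrees_letter (by norm_num))).mul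
    (agrees_letter (by norm_num))).mul (agrees_letter (by norm_num))

theorem agrees_word : ∀ (l : List ℕ), (∀ g ∈ l, g < 6) → ∀ {x : LyP} {P : ℕ}, Agrees x P →
    Agrees (x * (l.map fun g => sG (g / 2)).prod) (l.foldl (fun P g => mulP P (sP (g / 2))) P)
  | [], _, x, P, h => by simpa using h
  | g :: l, hl, x, P, h => by
    have := agrees_word l (fun a ha => hl a (List.mem_cons_of_mem _ ha))
      (h.mul (agrees_sG (show g / 2 < 3 by have := hl g List.mem_cons_self; omega)))
    simpa [mul_assoc] using this

theorem agrees_wordS {l : List ℕ} (hl : ∀ g ∈ l, g < 6) :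
    Agrees (l.map fun g => sG (g / 2)).prod (wordS l) := by
  simpa [wordS] using agrees_word l hl Agrees.one

theorem tG_ne : tG ≠ 1 := by
  intro h
  have := agrees_tG
  rw [h] at this
  have e := Agrees.one.functional this
  have h2 := tP_ne
  rw [← e, Nat.beq_refl] at h2
  exact Bool.noConfusion h2

theorem conj_eq (hinj : Function.Injective rho) {k : ℕ} (hk : k < 3) :
    cG k * tG * (cG k)⁻¹ = sG k := by
  have h : Nat.beq (mulP (cP k) tP) (mulP (sP k) (cP k)) = true := by
    interval_cases k
    exacts [conj0_ok, conj1_ok, conj2_ok]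
  have a1 := (agrees_sG hk).mul (agrees_cG k)
  rw [← Nat.eq_of_beq_eq_true h] at a1
  have e := hinj (((agrees_cG k).mul agrees_tG).rho_eq a1)
  rw [e, mul_inv_cancel_right]

theorem word_one (hinj : Function.Injective rho) {l : List ℕ} (hl : l ∈ TableS.relWords) :
    (l.map fun g => sG (g / 2)).prod = 1 := by
  have h := List.all_eq_true.1 rels_even l hl
  simp only [List.all_eq_true, Bool.and_eq_true, Nat.blt_eq] at h
  have h2 := Nat.eq_of_beq_eq_true (List.all_eq_true.1 rels_ok l hl)
  have a1 := agrees_wordS (l := l) fun g hg => (h g hg).1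
  rw [h2] at a1
  exact hinj (a1.rho_eq Agrees.one)

theorem cent_word (hinj : Function.Injective rho) :
    ((elemWords.getD centIdx []).map fun g => sG (g / 2)).prod = tG := by
  have h := cent_even
  simp only [List.all_eq_true, Bool.and_eq_true, Nat.blt_eq] at h
  have a1 := agrees_wordS (l := elemWords.getD centIdx []) fun g hg => (h g hg).1
  rw [Nat.eq_of_beq_eq_true cent_ok] at a1
  exact hinj (a1.rho_eq agrees_tG)

end Cfsg.Agent.Lib.LyFusion38
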