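import Cfsg.Agent.Lib.MathieuFusion.Criterion
import Cfsg.Agent.Lib.Coprime.Commutator

/-!
Simplicity of the 2-fusion system of a group from data in a Sylow subgroup: one central involution,
generators conjugate to it, and automorphisms of odd order acting trivially modulo the Frattini
subgroup.
-/

set_option autoImplicit false
set_option linter.style.haveILetI false

namespace Cfsg.Agent.Lib.LyFusion38

open Cfsg Cfsg.FusionSystem Cfsg.Agent.Lib.FS

variable {G : Type*} [Group G] [Finite G]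

theorem isSimple_of_data (P : Sylow 2 G) (t : G) (ht : t ≠ 1) (htP : t ∈ (P : Subgroup G))
    (hcen : ∀ z ∈ (P : Subgroup G), (∀ x ∈ (P : Subgroup G), x * z = z * x) → z * z = 1 →
      z = 1 ∨ z = t)
    (gs : Set G) (hgs : Subgroup.closure gs = (P : Subgroup G))
    (hconj : ∀ x ∈ gs, ∃ g : G, g * t * g⁻¹ = x)
    (haut : ∀ α : MulAut ↥(P : Subgroup G), Odd (orderOf α) →
      ∀ x, α x * x⁻¹ ∈ frattini ↥(P : Subgroup G)) :
    (groupFusionSystem (P : Subgroup G)).IsSimple 2 := by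
  haveI : Fact (Nat.Prime 2) := ⟨Nat.prime_two⟩
  have hne : (P : Subgroup G) ≠ ⊥ := fun h => ht (Subgroup.mem_bot.1 (h ▸ htP))
  refine FusionAlperin.Simple.isSimple_group P hne ?_ {(P : Subgroup G)} ?_ ?_
  · intro T hT
    by_cases hT1 : T = ⊥
    · exact Or.inl hT1
    refine Or.inr (le_antisymm hT.1 ?_)
    have hcl := MathieuFusion.conjClosed_of_stronglyClosed hT
    haveI hN : (T.subgroupOf (P : Subgroup G)).Normal :=
      ⟨fun x hx g => hcl _ hx g.1 (mul_mem (mul_mem g.2 x.2) (inv_mem g.2))⟩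
    have hne' : T.subgroupOf (P : Subgroup G) ≠ ⊥ := by
      rw [Ne, Subgroup.subgroupOf_eq_bot, disjoint_iff]
      intro h
      rw [inf_eq_left.2 hT.1] at h
      exact hT1 h
    have hne2 := Cfsg.Agent.Lib.PGroups.normal_inf_center_ne_bot P.isPGroup' _ hne'
    haveI : Nontrivial ↥(T.subgroupOf (P : Subgroup G) ⊓ Subgroup.center ↥(P : Subgroup G)) :=
      (Subgroup.nontrivial_iff_ne_bot _).2 hne2
    obtain ⟨n, hn⟩ := IsPGroup.iff_card.1
      (P.isPGroup'.to_subgroup (T.subgroupOf (P : Subgroup G) ⊓ Subgroup.center ↥(P : Subgroup G)))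
    have hn0 : n ≠ 0 := fun h => by
      have := Finite.one_lt_card
        (α := ↥(T.subgroupOf (P : Subgroup G) ⊓ Subgroup.center ↥(P : Subgroup G)))
      rw [hn, h] at this
      norm_num at this
    obtain ⟨w, hw⟩ := exists_prime_orderOf_dvd_card'
      (G := ↥(T.subgroupOf (P : Subgroup G) ⊓ Subgroup.center ↥(P : Subgroup G))) 2
      (by rw [hn]; exact dvd_pow_self 2 hn0)
    set z : G := ((w : ↥(P : Subgroup G)) : G)
    have hz2 : orderOf z = 2 := by rw [Subgroup.orderOf_coe, Subgroup.orderOf_coe, hw]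
    have hzT : z ∈ T := (Subgroup.mem_inf.1 w.2).1
    have hzz : z * z = 1 := by
      have := pow_orderOf_eq_one z
      rwa [hz2, pow_two] at this
    have htT : t ∈ T := by
      rcases hcen z (w : ↥(P : Subgroup G)).2 (fun x hx => congrArg Subtype.val
          (Subgroup.mem_center_iff.1 (Subgroup.mem_inf.1 w.2).2 ⟨x, hx⟩)) hzz with h | h
      · rw [h, orderOf_one] at hz2
        norm_num at hz2
      · exact h ▸ hzT
    rw [← hgs, Subgroup.closure_le]
    intro x hx
    obtain ⟨g, rfl⟩ := hconj x hx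
    exact hcl t htT g (hgs ▸ Subgroup.subset_closure hx)
  · rintro R rfl
    constructor
    · refine ⟨le_rfl, fun Q _ => Subgroup.card_le_of_le fun x hx => ⟨hx.1, ?_⟩⟩
      exact Subgroup.le_normalizer hx.1
    · refine ⟨le_rfl, fun Q hQ => ?_⟩
      obtain ⟨-, hQP, g, rfl⟩ := group_isConj_iff.mp hQ
      have : (P : Subgroup G).map (MulAut.conj g).toMonoidHom = (P : Subgroup G) :=
        Subgroup.eq_of_le_of_card_ge hQP
          (by rw [Subgroup.card_map_of_injective (MulEquiv.injective _)])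
      rw [this]
      exact inf_le_left
  · intro β hβ
    obtain ⟨g, -, hg⟩ := mem_autInducedBy.1 hβ
    have hgN : g ∈ Subgroup.normalizer ((P : Subgroup G) : Set G) := by
      refine mem_normalizer_of_conj_mem fun x hx => ?_
      rw [← hg ⟨x, hx⟩]; exact (β ⟨x, hx⟩).2
    refine Subgroup.mem_iSup_of_mem (P : Subgroup G) (Subgroup.mem_iSup_of_mem rfl ?_)
    obtain ⟨k, m, hm, hkm⟩ := Nat.exists_eq_two_pow_mul_odd (orderOf_pos g).ne'
    have hg' : g ^ 2 ^ k ∈ Subgroup.normalizer ((P : Subgroup G) : Set G) := pow_mem hgN _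
    have hm0 : (g ^ 2 ^ k) ^ m = 1 := by rw [← pow_mul, ← hkm, pow_orderOf_eq_one]
    have hodd : Odd (orderOf (g ^ 2 ^ k)) :=
      hm.of_dvd_nat (orderOf_dvd_of_pow_eq_one hm0)
    have hC : Subgroup.zpowers (g ^ 2 ^ k) ≤ Subgroup.centralizer ((P : Subgroup G) : Set G) := by
      refine Cfsg.Agent.Lib.Coprime.le_centralizer_of_frattini (Subgroup.zpowers_le.2 hg') ?_ ?_
      · obtain ⟨n, hn⟩ := IsPGroup.iff_card.1 (P.isPGroup'.to_subgroup (frattini ↥(P : Subgroup G)))
        rw [Nat.card_zpowers, hn]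
        exact (Nat.coprime_two_right.2 hodd).pow_right n
      · intro a ha x hx
        have haN : a ∈ Subgroup.normalizer ((P : Subgroup G) : Set G) :=
          Subgroup.zpowers_le.2 hg' ha
        refine ⟨(Subgroup.normalizerMonoidHom (P : Subgroup G) ⟨a, haN⟩ ⟨x, hx⟩) * ⟨x, hx⟩⁻¹, ?_, rfl⟩
        refine haut _ (Odd.of_dvd_nat hodd ?_) _
        refine (orderOf_map_dvd _ _).trans ?_
        rw [Subgroup.orderOf_mk]
        exact orderOf_dvd_of_mem_zpowers ha
    obtain ⟨u, v, huv⟩ : IsCoprime (m : ℤ) ((2 ^ k : ℕ) : ℤ) :=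
      Int.isCoprime_iff_nat_coprime.2 (by simpa using (Nat.coprime_two_right.2 hm).pow_right k)
    have hsplit : g = (g ^ m) ^ u * (g ^ 2 ^ k) ^ v := by
      rw [← zpow_natCast g m, ← zpow_natCast g (2 ^ k), ← zpow_mul, ← zpow_mul, ← zpow_add,
        mul_comm (m : ℤ), mul_comm ((2 ^ k : ℕ) : ℤ), huv, zpow_one]
    refine mem_autInducedBy.2 ⟨(g ^ m) ^ u, ?_, fun x => ?_⟩
    · suffices hsub : g ^ m ∈ {x : G | x ∈ Subgroup.normalizer ((P : Subgroup G) : Set G) ∧
          ∃ j : ℕ, orderOf x = 2 ^ j} from Subgroup.zpow_mem _ (Subgroup.subset_closure hsub) u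
      refine ⟨pow_mem hgN m, ?_⟩
      obtain ⟨j, -, hj⟩ := (Nat.dvd_prime_pow Nat.prime_two).1
        (orderOf_dvd_of_pow_eq_one (show (g ^ m) ^ 2 ^ k = 1 by
          rw [← pow_mul, mul_comm, ← hkm, pow_orderOf_eq_one]))
      exact ⟨j, hj⟩
    · rw [hg x]
      have hc : (x : G) * (g ^ 2 ^ k) ^ v = (g ^ 2 ^ k) ^ v * x :=
        hC (Subgroup.zpow_mem_zpowers _ v) x x.2
      conv_lhs => rw [hsplit]
      rw [mul_inv_rev, mul_assoc ((g ^ m) ^ u), ← hc]
      group

end Cfsg.Agent.Lib.LyFusion38
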