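import Cfsg.Agent.Lib.LyFusion38.Model
import Cfsg.Agent.Lib.LyFusion38.Certs
import Cfsg.Agent.Lib.LyFusion38.Criterion
import Cfsg.Prelude.Def_Sporadic

/-!
The 2-fusion system of a group isomorphic to the presented Lyons group is simple, given simplicity
and the order of the presented group.
-/

set_option autoImplicit false
set_option maxRecDepth 20000
set_option linter.style.haveILetI false

namespace Cfsg.Agent.Lib.LyFusion38

open Cfsg Cfsg.Agent.Lib.LyG2 Cfsg.Agent.Lib.ExactCover

theorem rho_injective (h : IsSimpleGroup LyP) : Function.Injective rho := by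
  haveI := h
  refine (MonoidHom.ker_eq_bot_iff _).1
    ((Subgroup.Normal.eq_bot_or_eq_top (MonoidHom.normal_ker rho)).resolve_right fun hk => rho_ne ?_)
  exact MonoidHom.mem_ker.1 (hk ▸ Subgroup.mem_top _)

/-- The generators as a function of the letters of the presentation. -/
noncomputable def genG (i : Fin 3) : LyP := sG i.val

theorem lift_even : ∀ {l : List ℕ}, (∀ g ∈ l, g < 6 ∧ g % 2 = 0) →
    FreeGroup.lift genG (word 3 l) = (l.map fun g => sG (g / 2)).prod
  | [], _ => by simp [word_nil]
  | g :: l, h => by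
    obtain ⟨h1, h2⟩ := h g List.mem_cons_self
    rw [word_cons, map_mul, List.map_cons, List.prod_cons,
      lift_even fun a ha => h a (List.mem_cons_of_mem _ ha)]
    congr 1
    have := lift_word_pos genG (⟨g / 2, by omega⟩ : Fin 3)
    rwa [show 2 * (g / 2) = g by omega] at this

theorem gen_rels (hinj : Function.Injective rho) : ∀ r ∈ TableS.pres, FreeGroup.lift genG r = 1 := by
  intro r hr
  obtain ⟨l, hl, rfl⟩ := List.mem_map.1 hr
  have h := List.all_eq_true.1 rels_even l hl
  simp only [List.all_eq_true, Bool.and_eq_true, Nat.blt_eq, Nat.beq_eq] at h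
  show FreeGroup.lift genG (word 3 l) = 1
  rw [lift_even h]
  exact word_one hinj hl

/-- The map of the 2-group into the Lyons group. -/
noncomputable def embed (hinj : Function.Injective rho) : Q →* LyP :=
  PresentedGroup.toGroup (gen_rels hinj)

theorem embed_tQ (hinj : Function.Injective rho) : embed hinj tQ = tG := by
  have h := cent_even
  simp only [List.all_eq_true, Bool.and_eq_true, Nat.blt_eq, Nat.beq_eq] at h
  have e : tQ = PresentedGroup.mk TableS.pres (word 3 (elemWords.getD centIdx [])) :=
    CosetEnum.Letters.prod_phi (L := TableS.letters) _ fun g hg => (h g hg).1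
  have hm : (embed hinj).comp (PresentedGroup.mk TableS.pres) = FreeGroup.lift genG :=
    FreeGroup.ext_hom _ _ fun i => by
      rw [MonoidHom.comp_apply, FreeGroup.lift_apply_of]
      exact PresentedGroup.toGroup.of (gen_rels hinj)
  rw [e, ← MonoidHom.comp_apply, hm, lift_even h, cent_word hinj]

theorem isPGroup_Q : IsPGroup 2 Q := IsPGroup.of_card (n := 8) (by rw [card_Q]; norm_num)

theorem embed_injective (hinj : Function.Injective rho) : Function.Injective (embed hinj) := by
  haveI : Fact (Nat.Prime 2) := ⟨Nat.prime_two⟩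
  refine (MonoidHom.ker_eq_bot_iff _).1 ?_
  by_contra hne
  have hne2 := Cfsg.Agent.Lib.PGroups.normal_inf_center_ne_bot isPGroup_Q (embed hinj).ker hne
  haveI : Nontrivial ↥((embed hinj).ker ⊓ Subgroup.center Q) :=
    (Subgroup.nontrivial_iff_ne_bot _).2 hne2
  obtain ⟨n, hn⟩ := IsPGroup.iff_card.1 (isPGroup_Q.to_subgroup ((embed hinj).ker ⊓ Subgroup.center Q))
  have hn0 : n ≠ 0 := fun h => by
    have := Finite.one_lt_card (α := ↥((embed hinj).ker ⊓ Subgroup.center Q))
    rw [hn, h] at this
    norm_num at this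
  obtain ⟨w, hw⟩ := exists_prime_orderOf_dvd_card' (G := ↥((embed hinj).ker ⊓ Subgroup.center Q)) 2
    (by rw [hn]; exact dvd_pow_self 2 hn0)
  have hz2 : orderOf (w : Q) = 2 := by rw [Subgroup.orderOf_coe, hw]
  have hzz : (w : Q) * (w : Q) = 1 := by
    have := pow_orderOf_eq_one (w : Q)
    rwa [hz2, pow_two] at this
  rcases centre_cases (Subgroup.mem_center_iff.1 (Subgroup.mem_inf.1 w.2).2) hzz with h | h
  · rw [h, orderOf_one] at hz2
    norm_num at hz2
  · have h1 : embed hinj (w : Q) = 1 := (Subgroup.mem_inf.1 w.2).1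
    rw [h, embed_tQ] at h1
    exact tG_ne h1

theorem map_frattini {A B : Type*} [Group A] [Group B] [Finite A] [Finite B] (e : A ≃* B)
    (hB : IsPGroup 2 B) {x : A} (hx : x ∈ frattini A) : e x ∈ frattini B :=
  Cfsg.Agent.Lib.SquareMaps.frattini_le ((frattini B).comap e.toMonoidHom) (fun y => by
    show e (y ^ 2) ∈ frattini B
    rw [map_pow]
    exact Cfsg.Agent.Lib.SquareMaps.sq_mem_frattini hB (e y)) hx

/-- The fusion system is simple. -/
theorem fusion_isSimple (hLy : IsLy Spor.Ly) {G : Type*} [Group G] [Finite G] (e : G ≃* Spor.Ly)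
    (S : Sylow 2 G) : (groupFusionSystem (S : Subgroup G)).IsSimple 2 := by
  haveI : Fact (Nat.Prime 2) := ⟨Nat.prime_two⟩
  have hinj := rho_injective hLy.1
  let i0 : Q →* G := e.symm.toMonoidHom.comp (embed hinj)
  have hi0 : Function.Injective i0 := e.symm.injective.comp (embed_injective hinj)
  have hcard : Nat.card i0.range = 2 ^ (Nat.card G).factorization 2 := by
    rw [Nat.card_congr (MonoidHom.ofInjective hi0).toEquiv.symm, card_Q, Nat.card_congr e.toEquiv,
      hLy.2, show (51765179004000000 : ℕ) = 2 ^ 8 * 202207730484375 by norm_num,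
      Nat.factorization_mul (by norm_num) (by norm_num), Finsupp.add_apply,
      Nat.Prime.factorization_pow Nat.prime_two, Finsupp.single_eq_same,
      Nat.factorization_eq_zero_of_not_dvd (by norm_num)]
    norm_num
  obtain ⟨c, hc⟩ := MulAction.exists_smul_eq G (Sylow.ofCard i0.range hcard) S
  let f : Q →* G := (MulAut.conj c).toMonoidHom.comp i0
  have hf : Function.Injective f := (MulAut.conj c).injective.comp hi0
  have hrange : f.range = (S : Subgroup G) := by
    rw [← hc, MonoidHom.range_comp]
    rfl
  let ψ : Q ≃* ↥(S : Subgroup G) :=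
    (MonoidHom.ofInjective hf).trans (MulEquiv.subgroupCongr hrange)
  have hψ : ∀ q, ((ψ q : ↥(S : Subgroup G)) : G) = f q := fun q => rfl
  have hft : ∀ q, f q = c * e.symm (embed hinj q) * c⁻¹ := fun q => rfl
  refine isSimple_of_data S (f tQ) ?_ (hrange ▸ ⟨tQ, rfl⟩) ?_
    (Set.range fun i : Fin 3 => f (PresentedGroup.of i)) ?_ ?_ ?_
  · intro h
    have h1 := hi0 (show i0 tQ = i0 1 by
      have h' : MulAut.conj c (i0 tQ) = MulAut.conj c (i0 1) := by
        rw [map_one i0, map_one (MulAut.conj c)]; exact h
      exact (MulAut.conj c).injective h')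
    have := embed_tQ hinj
    rw [h1, map_one] at this
    exact tG_ne this.symm
  · intro z hz hzc hzz
    rw [← hrange] at hz
    obtain ⟨q, rfl⟩ := hz
    rcases centre_cases (x := q) (fun y => hf (by
        rw [map_mul, map_mul]; exact hzc _ (hrange ▸ ⟨y, rfl⟩)))
      (hf (by rw [map_mul, map_one]; exact hzz)) with h | h
    · exact Or.inl (by rw [h, map_one])
    · exact Or.inr (by rw [h])
  · rw [← hrange, MonoidHom.range_eq_map, ← PresentedGroup.closure_range_of TableS.pres,
      MonoidHom.map_closure]
    congr 1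
    exact Set.range_comp f PresentedGroup.of
  · rintro _ ⟨i, rfl⟩
    refine ⟨c * e.symm (cG i.val) * c⁻¹, ?_⟩
    show _ = f (PresentedGroup.of i)
    rw [hft, hft, embed_tQ, show embed hinj (PresentedGroup.of i) = sG i.val from
      PresentedGroup.toGroup.of (gen_rels hinj), ← conj_eq hinj i.isLt, map_mul, map_mul, map_inv]
    group
  · intro α hα x
    obtain ⟨q, rfl⟩ := ψ.surjective x
    have hodd : Odd (orderOf ((MulAut.congr ψ.symm) α)) := by rwa [MulEquiv.orderOf_eq]
    have h := map_frattini ψ S.isPGroup' (frattini_trivial _ hodd q)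
    rw [map_mul, map_inv] at h
    have e1 : ψ ((MulAut.congr ψ.symm α) q) = α (ψ q) := by
      show ψ (ψ.symm (α (ψ.symm.symm q))) = α (ψ q)
      rw [MulEquiv.apply_symm_apply, MulEquiv.symm_symm]
    rwa [e1] at h

end Cfsg.Agent.Lib.LyFusion38
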