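import Cfsg.Agent.Lib.LyFusion38.TableS.Enum
import Cfsg.Agent.Lib.LyFusion38.ModelData
import Cfsg.Agent.Lib.SquareMaps.Basic

/-!
The 2-group of order 256: its centre, its generators, and the fact that an automorphism of odd
order acts trivially modulo the Frattini subgroup.
-/

set_option autoImplicit false
set_option maxRecDepth 100000
set_option Elab.async false

namespace Cfsg.Agent.Lib.LyFusion38

open Cfsg.Agent.Lib.CosetEnum

/-- The presented 2-group. -/
abbrev Q : Type := PresentedGroup TableS.pres

/-- The element of a word. -/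
noncomputable def elQ (w : List ℕ) : Q := (w.map (TableS.letters.phi TableS.pres)).prod

/-- The image of a position under a word. -/
noncomputable def im (w : List ℕ) (i : ℕ) : ℕ := scan 6 TableS.table w i

/-- The word of a position. -/
noncomputable def wordAt (i : ℕ) : List ℕ := elemWords.getD i []

/-- The product of two positions. -/
noncomputable def mulI (i j : ℕ) : ℕ := im (wordAt j) i

/-- The order class of a position: 1 for at most two, 2 for four, 4 otherwise. -/
noncomputable def kindI (i : ℕ) : ℕ :=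
  cond (Nat.beq (mulI i i) 0) 1 (cond (Nat.beq (mulI (mulI i i) (mulI i i)) 0) 2 4)

theorem words_ok : ((List.range 256).all fun i =>
    ((wordAt i).all fun g => Nat.blt g 6) && Nat.beq (im (wordAt i) 0) i) = true := by decide +kernel

theorem centre_ok : ((List.range 256).all fun i =>
    Nat.beq i 0 || Nat.beq i centIdx || !(Nat.beq (mulI i i) 0) ||
      !(([0, 2, 4] : List ℕ).all fun g => Nat.beq (im [g] i) (im (wordAt i) (im [g] 0)))) = true := by
  decide +kernel

theorem phi_closed_ok : (squaresProd.all fun p => Nat.blt p 256 && squaresProd.all fun q =>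
    squaresProd.contains (mulI p q)) = true := by decide +kernel

theorem squares_ok : ((List.range 256).all fun i => squaresProd.contains (mulI i i)) = true := by
  decide +kernel

theorem pairs_ok : ((List.range 32).all fun k =>
    Nat.blt (squarePairs.getD k (256, 256)).1 256 && Nat.blt (squarePairs.getD k (256, 256)).2 256 &&
    Nat.beq (squaresProd.getD k 256)
      (mulI (mulI (squarePairs.getD k (256, 256)).1 (squarePairs.getD k (256, 256)).1)
        (mulI (squarePairs.getD k (256, 256)).2 (squarePairs.getD k (256, 256)).2))) = true := by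
  decide +kernel

theorem length_squaresProd : squaresProd.length = 32 := by decide +kernel

theorem zero_mem_squares : squaresProd.contains 0 = true := by decide +kernel

theorem class_mul_ok : ((List.range 256).all fun i => squaresProd.all fun p =>
    Nat.beq (classOf.getD (mulI i p) 8) (classOf.getD i 8)) = true := by decide +kernel

theorem class_conv_ok : ((List.range 256).all fun i => (List.range 256).all fun j =>
    !(Nat.beq (classOf.getD i 8) (classOf.getD j 8)) ||
      squaresProd.any fun p => Nat.beq (mulI i p) j) = true := by decide +kernel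

theorem class_lt_ok : ((List.range 256).all fun i => Nat.blt (classOf.getD i 8) 8) = true := by
  decide +kernel

theorem profile_mem_ok : ((List.range 256).all fun i =>
    !(Nat.beq (Nat.land (profiles.getD (classOf.getD i 8) 0) (kindI i)) 0)) = true := by
  decide +kernel

theorem profile_exists_ok : ((List.range 8).all fun k => ([1, 2, 4] : List ℕ).all fun e =>
    Nat.beq (Nat.land (profiles.getD k 0) e) 0 ||
      (List.range 256).any fun i => Nat.beq (classOf.getD i 8) k && Nat.beq (kindI i) e) = true := by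
  decide +kernel

theorem profile_fibres_fin : ∀ a b c : Fin 8, profiles.getD a.val 0 = profiles.getD b.val 0 →
    profiles.getD a.val 0 = profiles.getD c.val 0 → a = b ∨ a = c ∨ b = c := by decide +kernel

theorem profile_fibres (a : ℕ) (ha : a < 8) (b : ℕ) (hb : b < 8) (c : ℕ) (hc : c < 8)
    (h1 : profiles.getD a 0 = profiles.getD b 0) (h2 : profiles.getD a 0 = profiles.getD c 0) :
    a = b ∨ a = c ∨ b = c := by
  rcases profile_fibres_fin ⟨a, ha⟩ ⟨b, hb⟩ ⟨c, hc⟩ h1 h2 with h | h | h
  · exact Or.inl (congrArg Fin.val h)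
  · exact Or.inr (Or.inl (congrArg Fin.val h))
  · exact Or.inr (Or.inr (congrArg Fin.val h))

theorem profile_bits : ∀ a < 8, ∀ b < 8,
    (∀ e ∈ ([1, 2, 4] : List ℕ), (profiles.getD a 0 &&& e = 0 ↔ profiles.getD b 0 &&& e = 0)) →
      profiles.getD a 0 = profiles.getD b 0 := by decide +kernel

theorem action : ∃ ρ : Q →* Equiv.Perm (Fin 256),
    (∀ g < 6, ∀ i : Fin 256, ((ρ (TableS.letters.phi TableS.pres g))⁻¹ i).1 =
      get32 TableS.table (i.1 * 6 + g)) ∧
    ∀ x, x ∈ subOf TableS.letters TableS.pres TableS.subWords ↔ ρ x 0 = 0 := by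
  obtain ⟨ρ, h1, h2, -⟩ := TableS.enum.action
  exact ⟨ρ, h1, h2⟩

theorem subOf_eq_bot : subOf TableS.letters TableS.pres TableS.subWords = ⊥ := by
  rw [subOf, eq_bot_iff, Subgroup.closure_le]
  rintro x ⟨l, hl, -⟩
  simp [TableS.subWords] at hl

theorem card_Q : Nat.card Q = 256 := by
  have h := TableS.enum.index
  rwa [subOf_eq_bot, Subgroup.index_bot] at h

instance : Finite Q := Nat.finite_of_card_ne_zero (by rw [card_Q]; norm_num)

/-- The action. -/
noncomputable def rhoQ : Q →* Equiv.Perm (Fin 256) := action.choose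

/-- The position of an element. -/
noncomputable def pos (x : Q) : ℕ := ((rhoQ x)⁻¹ 0).1

theorem pos_lt (x : Q) : pos x < 256 := Fin.isLt _

theorem scan_spec : ∀ (w : List ℕ), (∀ g ∈ w, g < 6) → ∀ i : Fin 256,
    ((rhoQ (elQ w))⁻¹ i).1 = im w i.1
  | [], _, i => by simp [elQ, im, scan]
  | g :: w, hw, i => by
    have hg := hw g List.mem_cons_self
    have h1 : ((rhoQ (TableS.letters.phi TableS.pres g))⁻¹ i).1 = get32 TableS.table (i.1 * 6 + g) :=
      action.choose_spec.1 g hg i
    have h2 := scan_spec w (fun a ha => hw a (List.mem_cons_of_mem _ ha))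
      ((rhoQ (TableS.letters.phi TableS.pres g))⁻¹ i)
    rw [show elQ (g :: w) = TableS.letters.phi TableS.pres g * elQ w by simp [elQ], map_mul,
      mul_inv_rev, Equiv.Perm.mul_apply, h2, h1]
    show _ = force _ _
    rw [force_eq]
    rfl

theorem pos_elQ {w : List ℕ} (hw : ∀ g ∈ w, g < 6) : pos (elQ w) = im w 0 := scan_spec w hw 0

theorem pos_injective : Function.Injective pos := by
  intro x y h
  have h' : (rhoQ x)⁻¹ 0 = (rhoQ y)⁻¹ 0 := Fin.ext h
  have h1 : rhoQ (x * y⁻¹) 0 = 0 := by
    rw [map_mul, map_inv, Equiv.Perm.mul_apply, ← h']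
    simp
  have h2 := (action.choose_spec.2 (x * y⁻¹)).2 h1
  rw [subOf_eq_bot, Subgroup.mem_bot] at h2
  exact mul_inv_eq_one.1 h2

theorem wordAt_spec {i : ℕ} (hi : i < 256) :
    (∀ g ∈ wordAt i, g < 6) ∧ im (wordAt i) 0 = i := by
  have h := List.all_eq_true.1 words_ok i (List.mem_range.2 hi)
  simp only [Bool.and_eq_true, List.all_eq_true, Nat.blt_eq, Nat.beq_eq] at h
  exact h

theorem elQ_wordAt_pos (x : Q) : elQ (wordAt (pos x)) = x :=
  pos_injective (by rw [pos_elQ (wordAt_spec (pos_lt x)).1, (wordAt_spec (pos_lt x)).2])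

theorem pos_mul (x y : Q) : pos (x * y) = mulI (pos x) (pos y) := by
  conv_lhs => rw [← elQ_wordAt_pos y]
  show ((rhoQ (x * elQ (wordAt (pos y))))⁻¹ 0).1 = _
  rw [map_mul, mul_inv_rev, Equiv.Perm.mul_apply, scan_spec _ (wordAt_spec (pos_lt y)).1]
  rfl

theorem pos_one : pos 1 = 0 := by simp [pos]

theorem exists_pos {i : ℕ} (hi : i < 256) : ∃ x, pos x = i :=
  ⟨elQ (wordAt i), by rw [pos_elQ (wordAt_spec hi).1, (wordAt_spec hi).2]⟩

/-- The central involution. -/
noncomputable def tQ : Q := elQ (wordAt centIdx)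

theorem pos_tQ : pos tQ = centIdx := by
  rw [tQ, pos_elQ (wordAt_spec (by decide)).1, (wordAt_spec (by decide)).2]

/-- A central element of order at most two. -/
theorem centre_cases {x : Q} (hx : ∀ y, y * x = x * y) (h2 : x * x = 1) : x = 1 ∨ x = tQ := by
  have h := List.all_eq_true.1 centre_ok (pos x) (List.mem_range.2 (pos_lt x))
  simp only [Bool.or_eq_true, Nat.beq_eq, Bool.not_eq_true'] at h
  rcases h with ((h | h) | h) | h
  · exact Or.inl (pos_injective (h.trans pos_one.symm))
  · exact Or.inr (pos_injective (h.trans pos_tQ.symm))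
  · rw [← pos_mul, h2, pos_one] at h
    simp at h
  · exfalso
    rw [Bool.eq_false_iff] at h
    apply h
    simp only [List.all_eq_true, Nat.beq_eq]
    intro g hg
    have hg6 : ∀ a ∈ ([g] : List ℕ), a < 6 := by
      intro a ha
      rw [List.mem_singleton] at ha
      simp only [List.mem_cons, List.not_mem_nil, or_false] at hg
      omega
    have e1 : pos (x * elQ [g]) = im [g] (pos x) := by
      unfold pos
      rw [map_mul, mul_inv_rev, Equiv.Perm.mul_apply, scan_spec _ hg6]
    have e2 : pos (elQ [g] * x) = im (wordAt (pos x)) (im [g] 0) := by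
      rw [pos_mul, pos_elQ hg6]
      rfl
    rw [← e1, ← e2, hx]

theorem mem_squaresProd_iff (x : Q) : x ∈ frattini Q ↔ pos x ∈ squaresProd := by
  have hp : IsPGroup 2 Q := IsPGroup.of_card (n := 8) (by rw [card_Q]; norm_num)
  constructor
  · intro hx
    let M : Submonoid Q :=
      { carrier := {x | pos x ∈ squaresProd}
        one_mem' := by
          rw [Set.mem_setOf_eq, pos_one]
          exact List.contains_iff_mem.1 zero_mem_squares
        mul_mem' := by
          intro a b ha hb
          have h := List.all_eq_true.1 phi_closed_ok (pos a) ha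
          simp only [Bool.and_eq_true, List.all_eq_true, List.contains_iff_mem] at h
          rw [Set.mem_setOf_eq, pos_mul]
          exact h.2 (pos b) hb }
    let K : Subgroup Q :=
      { M with
        inv_mem' := by
          intro a ha
          obtain ⟨k, -, hk⟩ : ∃ k, k < orderOf a ∧ a⁻¹ = a ^ k :=
            ⟨orderOf a - 1, by have := orderOf_pos a; omega, inv_eq_of_mul_eq_one_right (by
              rw [← pow_succ', Nat.sub_add_cancel (orderOf_pos a), pow_orderOf_eq_one])⟩
          show a⁻¹ ∈ M
          rw [hk]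
          exact pow_mem ha k }
    have hle : frattini Q ≤ K := Cfsg.Agent.Lib.SquareMaps.frattini_le K fun y => by
      show pos (y ^ 2) ∈ squaresProd
      rw [pow_two, pos_mul]
      exact List.contains_iff_mem.1
        (List.all_eq_true.1 squares_ok (pos y) (List.mem_range.2 (pos_lt y)))
    exact hle hx
  · intro hx
    obtain ⟨k, hk, hkx⟩ := List.mem_iff_getElem.1 hx
    rw [length_squaresProd] at hk
    have h := List.all_eq_true.1 pairs_ok k (List.mem_range.2 hk)
    simp only [Bool.and_eq_true, Nat.blt_eq, Nat.beq_eq] at h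
    obtain ⟨⟨ha, hb⟩, he⟩ := h
    rw [List.getD_eq_getElem _ _ (by rw [length_squaresProd]; exact hk), hkx] at he
    obtain ⟨a, ha'⟩ := exists_pos ha
    obtain ⟨b, hb'⟩ := exists_pos hb
    have : x = a ^ 2 * b ^ 2 := pos_injective (by
      rw [pos_mul, pow_two, pow_two, pos_mul, pos_mul, ha', hb']; exact he)
    rw [this]
    exact mul_mem (Cfsg.Agent.Lib.SquareMaps.sq_mem_frattini hp a)
      (Cfsg.Agent.Lib.SquareMaps.sq_mem_frattini hp b)

/-- The class of an element modulo the Frattini subgroup. -/
noncomputable def clsQ (x : Q) : ℕ := classOf.getD (pos x) 8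

theorem clsQ_lt (x : Q) : clsQ x < 8 :=
  Nat.le_of_ble_eq_true (List.all_eq_true.1 class_lt_ok (pos x) (List.mem_range.2 (pos_lt x)))

theorem clsQ_eq_iff (x y : Q) : clsQ x = clsQ y ↔ x⁻¹ * y ∈ frattini Q := by
  constructor
  · intro h
    have h1 := List.all_eq_true.1 (List.all_eq_true.1 class_conv_ok (pos x)
      (List.mem_range.2 (pos_lt x))) (pos y) (List.mem_range.2 (pos_lt y))
    simp only [Bool.or_eq_true, Bool.not_eq_true', List.any_eq_true, Nat.beq_eq] at h1
    rcases h1 with h1 | ⟨p, hp, hpe⟩
    · rw [Bool.eq_false_iff, Ne, Nat.beq_eq] at h1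
      exact absurd h h1
    · have h2 := List.all_eq_true.1 phi_closed_ok p hp
      simp only [Bool.and_eq_true, Nat.blt_eq] at h2
      obtain ⟨z, hz⟩ := exists_pos h2.1
      have : y = x * z := pos_injective (by rw [pos_mul, hz]; exact hpe.symm)
      rw [this, inv_mul_cancel_left, mem_squaresProd_iff, hz]
      exact hp
  · intro h
    have h1 := List.all_eq_true.1 (List.all_eq_true.1 class_mul_ok (pos x)
      (List.mem_range.2 (pos_lt x))) (pos (x⁻¹ * y)) ((mem_squaresProd_iff _).1 h)
    rw [Nat.beq_eq, ← pos_mul, mul_inv_cancel_left] at h1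
    exact h1.symm

/-- The kind of an element. -/
noncomputable def kindQ (x : Q) : ℕ := kindI (pos x)

theorem kindQ_map (α : MulAut Q) (x : Q) : kindQ (α x) = kindQ x := by
  have key : ∀ z : Q, Nat.beq (pos (α z)) 0 = Nat.beq (pos z) 0 := by
    intro z
    rw [Bool.eq_iff_iff, Nat.beq_eq, Nat.beq_eq, ← pos_one, pos_injective.eq_iff,
      pos_injective.eq_iff, map_eq_one_iff _ α.injective]
  simp only [kindQ, kindI, ← pos_mul, ← map_mul, key]

theorem profile_eq_of_kinds {a b : ℕ} (ha : a < 8) (hb : b < 8)
    (h : ∀ e, (∃ x, clsQ x = a ∧ kindQ x = e) ↔ ∃ x, clsQ x = b ∧ kindQ x = e) :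
    profiles.getD a 0 = profiles.getD b 0 := by
  refine profile_bits a ha b hb fun e he => ?_
  have key : ∀ c < 8, ¬ (profiles.getD c 0 &&& e = 0) ↔ ∃ x, clsQ x = c ∧ kindQ x = e := by
    intro c hc
    constructor
    · intro hne
      have h1 := List.all_eq_true.1 (List.all_eq_true.1 profile_exists_ok c (List.mem_range.2 hc)) e he
      simp only [Bool.or_eq_true, Nat.beq_eq, List.any_eq_true, List.mem_range,
        Bool.and_eq_true] at h1
      rcases h1 with h1 | ⟨i, hi, hi1, hi2⟩
      · exact absurd h1 hne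
      · obtain ⟨x, hx⟩ := exists_pos hi
        exact ⟨x, by rw [clsQ, hx, hi1], by rw [kindQ, hx, hi2]⟩
    · rintro ⟨x, hx, hk⟩
      have h1 := List.all_eq_true.1 profile_mem_ok (pos x) (List.mem_range.2 (pos_lt x))
      rw [Bool.not_eq_true', Bool.eq_false_iff, Ne, Nat.beq_eq] at h1
      rw [← hx, ← hk]
      exact h1
  exact not_iff_not.1 ((key a ha).trans ((h e).trans (key b hb).symm))

/-- An automorphism of odd order acts trivially modulo the Frattini subgroup. -/
theorem frattini_trivial (α : MulAut Q) (hodd : Odd (orderOf α)) (x : Q) :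
    α x * x⁻¹ ∈ frattini Q := by
  have hchar : ∀ (β : MulAut Q) (z : Q), z ∈ frattini Q → β z ∈ frattini Q := fun β z hz =>
    Subgroup.characteristic_iff_map_le.1 inferInstance β ⟨z, hz, rfl⟩
  have hcls : ∀ (β : MulAut Q) {u v : Q}, clsQ u = clsQ v → clsQ (β u) = clsQ (β v) := by
    intro β u v h
    rw [clsQ_eq_iff] at h ⊢
    rw [← map_inv, ← map_mul]
    exact hchar β _ h
  have hback : ∀ {u v : Q}, clsQ (α u) = clsQ (α v) → clsQ u = clsQ v := by
    intro u v h
    have := hcls α⁻¹ h
    simpa using this
  have hprof : ∀ u : Q, profiles.getD (clsQ u) 0 = profiles.getD (clsQ (α u)) 0 := by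
    intro u
    refine profile_eq_of_kinds (clsQ_lt u) (clsQ_lt _) fun e => ?_
    constructor
    · rintro ⟨z, hz, he⟩
      exact ⟨α z, hcls α hz, by rw [kindQ_map, he]⟩
    · rintro ⟨z, hz, he⟩
      obtain ⟨w, rfl⟩ : ∃ w, α w = z := α.surjective z
      exact ⟨w, hback hz, by rw [← kindQ_map α w, he]⟩
  have hfix : clsQ (α x) = clsQ x := by
    by_contra hne
    have h2 : clsQ (α (α x)) = clsQ x := by
      rcases profile_fibres _ (clsQ_lt x) _ (clsQ_lt (α x)) _ (clsQ_lt (α (α x))) (hprof x)
          ((hprof x).trans (hprof (α x))) with h | h | h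
      · exact absurd h.symm hne
      · exact h.symm
      · exact absurd (hback h).symm hne
    have hev : ∀ j : ℕ, clsQ ((α ^ (2 * j + 1)) x) = clsQ (α x) := by
      intro j
      induction j with
      | zero => simp
      | succ j ih =>
        rw [show 2 * (j + 1) + 1 = 1 + (1 + (2 * j + 1)) by ring, pow_add, pow_add, pow_one,
          MulAut.mul_apply, MulAut.mul_apply]
        exact (hcls α (hcls α ih)).trans (hcls α h2)
    obtain ⟨j, hj⟩ := hodd
    have h3 := hev j
    rw [← hj, pow_orderOf_eq_one, MulAut.one_apply] at h3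
    exact hne h3.symm
  rw [clsQ_eq_iff] at hfix
  have h := (frattini Q).inv_mem hfix
  rw [mul_inv_rev, inv_inv] at h
  have h4 := (inferInstance : (frattini Q).Normal).conj_mem _ h x
  rwa [show x * (x⁻¹ * α x) * x⁻¹ = α x * x⁻¹ by group] at h4

end Cfsg.Agent.Lib.LyFusion38
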