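import Cfsg.Agent.Lib.LyG2.Rep

/-!
Straight-line programs evaluated in the presented Lyons group and in packed matrices of its
111-dimensional representation.
-/

set_option autoImplicit false
set_option maxRecDepth 20000

namespace Cfsg.Agent.Lib.LyFusion38

open Cfsg.Spor Cfsg.Agent.Lib.ExactCover Cfsg.Agent.Lib.LyG2

/-- The presented group. -/
abbrev LyP : Type := PresentedGroup relators

/-- A program applied to a list of inputs. -/
def runM {M : Type*} (mul : M → M → M) (one : M) (init : List M) (prog : List (ℕ × ℕ)) : List M :=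
  prog.foldl (fun env p => env ++ [mul (env.getD p.1 one) (env.getD p.2 one)]) init

/-- The rows of a packed matrix. -/
noncomputable def rowsP (n P : ℕ) : List ℕ :=
  (List.range n).map fun i =>
    Nat.land (Nat.shiftRight P (32 * n * i)) (Nat.pow 2 (32 * n) - 1)

theorem digit_packB {S : ℕ} : ∀ {rs : List ℕ} (i : ℕ), (∀ r ∈ rs, r < 2 ^ S) →
    Code.packB S rs / 2 ^ (S * i) % 2 ^ S = rs.getD i 0
  | [], i, _ => by simp [Code.packB]
  | r :: rs, 0, h => by
    rw [Code.packB_cons, mul_zero, pow_zero, Nat.div_one, List.getD_cons_zero,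
      Nat.add_mul_mod_self_left, Nat.mod_eq_of_lt (h r List.mem_cons_self)]
  | r :: rs, i + 1, h => by
    rw [Code.packB_cons, show S * (i + 1) = S + S * i by ring, pow_add, ← Nat.div_div_eq_div_mul,
      Nat.add_mul_div_left _ _ (by positivity), Nat.div_eq_of_lt (h r List.mem_cons_self), zero_add,
      digit_packB i fun x hx => h x (List.mem_cons_of_mem _ hx), List.getD_cons_succ]

theorem rowsP_pack {n : ℕ} {L : List (List ℕ)} (h : Code.OK n L) :
    rowsP n (Code.packM n L) = L.map Code.pack := by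
  have hlt : ∀ r ∈ L.map Code.pack, r < 2 ^ (32 * n) := by
    intro r hr
    obtain ⟨l, hl, rfl⟩ := List.mem_map.1 hr
    rw [← (h.2 l hl).1]
    exact Code.pack_lt fun x hx => by have := (h.2 l hl).2 x hx; omega
  refine List.ext_getElem (by simp [rowsP, h.1]) fun i h1 h2 => ?_
  rw [← List.getD_eq_getElem (L.map Code.pack) 0 h2, ← digit_packB i hlt]
  simp only [rowsP, List.getElem_map, List.getElem_range]
  show (Code.packM n L >>> (32 * n * i)) &&& (2 ^ (32 * n) - 1) = _
  rw [Nat.and_two_pow_sub_one_eq_mod, Nat.shiftRight_eq_div_pow]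
  rfl

/-- The product of two packed matrices. -/
noncomputable def mulP (P R : ℕ) : ℕ := Code.mulM 111 P (rowsP 111 R)

/-- An element of the presented group has the given packed matrix. -/
def Agrees (x : LyP) (P : ℕ) : Prop :=
  ∃ L, Code.OK 111 L ∧ P = Code.packM 111 L ∧
    (rho x : Matrix (Fin 111) (Fin 111) (ZMod 5)) = Code.val 111 L

theorem Agrees.mul {x y : LyP} {P R : ℕ} (hx : Agrees x P) (hy : Agrees y R) :
    Agrees (x * y) (mulP P R) := by
  obtain ⟨L, hL, rfl, hvx⟩ := hx
  obtain ⟨K, hK, rfl, hvy⟩ := hy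
  refine ⟨Code.mulL 111 L K, Code.OK_mulL hL hK, ?_, ?_⟩
  · rw [mulP, rowsP_pack hK, Code.mulM_pack (by norm_num) hL hK]
  · rw [map_mul, Units.val_mul, hvx, hvy, Code.val_mulL hL hK]

theorem Agrees.one : Agrees 1 repOne := by
  refine ⟨Code.oneL 111, Code.OK_oneL 111, Nat.eq_of_beq_eq_true repOne_ok, ?_⟩
  rw [map_one, Code.val_oneL]
  rfl

theorem Agrees.rho_eq {x y : LyP} {P : ℕ} (hx : Agrees x P) (hy : Agrees y P) : rho x = rho y := by
  obtain ⟨L, hL, hPL, hvx⟩ := hx
  obtain ⟨K, hK, hPK, hvy⟩ := hy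
  exact Units.ext (by rw [hvx, hvy, Code.packM_inj hL hK (hPL.symm.trans hPK)])

theorem Agrees.functional {x : LyP} {P R : ℕ} (hx : Agrees x P) (hy : Agrees x R) : P = R := by
  obtain ⟨L, hL, rfl, hvx⟩ := hx
  obtain ⟨K, hK, rfl, hvy⟩ := hy
  refine congrArg _ ?_
  have hv : Code.val 111 L = Code.val 111 K := hvx.symm.trans hvy
  refine List.ext_getElem (hL.1.trans hK.1.symm) fun k hk hk' => ?_
  have l1 := (hL.2 _ (List.getElem_mem hk)).1
  have l2 := (hK.2 _ (List.getElem_mem hk')).1
  refine List.ext_getElem (l1.trans l2.symm) fun j hj hj' => ?_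
  have he := congrFun (congrFun hv ⟨k, hL.1 ▸ hk⟩) ⟨j, l1 ▸ hj⟩
  simp only [Code.val, Matrix.of_apply, List.getD_eq_getElem _ _ hk, List.getD_eq_getElem _ _ hk',
    List.getD_eq_getElem _ _ hj, List.getD_eq_getElem _ _ hj'] at he
  rw [ZMod.natCast_eq_natCast_iff'] at he
  have b1 := (hL.2 _ (List.getElem_mem hk)).2 _ (List.getElem_mem hj)
  have b2 := (hK.2 _ (List.getElem_mem hk')).2 _ (List.getElem_mem hj')
  omega

theorem forall₂_getD {α β : Type*} {R : α → β → Prop} {a : α} {b : β} (hab : R a b) :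
    ∀ {l : List α} {m : List β}, List.Forall₂ R l m → ∀ i, R (l.getD i a) (m.getD i b)
  | [], [], _, i => by simpa using hab
  | _ :: _, _ :: _, .cons h _, 0 => by simpa using h
  | _ :: _, _ :: _, .cons _ h, i + 1 => by simpa using forall₂_getD hab h i

theorem runM_rel {α β : Type*} {R : α → β → Prop} {f : α → α → α} {g : β → β → β} {a : α} {b : β}
    (hab : R a b) (hm : ∀ {x y u v}, R x u → R y v → R (f x y) (g u v)) :
    ∀ (prog : List (ℕ × ℕ)) {l : List α} {m : List β}, List.Forall₂ R l m →
      List.Forall₂ R (runM f a l prog) (runM g b m prog)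
  | [], _, _, h => h
  | p :: prog, _, _, h => runM_rel hab hm prog
      (List.rel_append h (.cons (hm (forall₂_getD hab h p.1) (forall₂_getD hab h p.2)) .nil))

/-- The value of a letter. -/
noncomputable def gL (g : ℕ) : LyP := proj (back (word 5 [g]))

/-- The packed value of a letter. -/
noncomputable def letP (g : ℕ) : ℕ := Code.packB (32 * 111) (repAlph.prows g)

theorem rho_proj_back : rho.comp (proj.comp back) = repAlph.hom := by
  refine FreeGroup.ext_hom _ _ fun i => ?_
  have hb : back (FreeGroup.of i) = FreeGroup.of (base i) := FreeGroup.lift_apply_of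
  have hd : defWord (base i) = [2 * i.val] := by fin_cases i <;> rfl
  rw [MonoidHom.comp_apply, MonoidHom.comp_apply, hb,
    show rho (proj (FreeGroup.of (base i))) = repAlph.hom (word 5 (defWord (base i))) from rho_word _,
    hd, repAlph.hom_letter _ (by omega)]
  exact FreeGroup.lift_apply_of.symm

theorem agrees_letter {g : ℕ} (hg : g < 10) : Agrees (gL g) (letP g) := by
  obtain ⟨hok, hp⟩ := repAlph.rows_spec (g := g) (by omega)
  refine ⟨repAlph.rows g, hok, by rw [letP, hp]; rfl, ?_⟩
  have h := DFunLike.congr_fun rho_proj_back (word 5 [g])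
  rw [MonoidHom.comp_apply, MonoidHom.comp_apply, repAlph.hom_letter g (by omega)] at h
  rw [gL, h, repAlph.val_unit (by omega)]

end Cfsg.Agent.Lib.LyFusion38
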